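import Groth.Agent.AlgStLib.ReducedSub
import Groth.Agent.AlgSpRegLib.ImageReduced
import Groth.Agent.AlgSpLib.Sep
import Groth.Prelude.Def_StCoarse

/-! A categorical moduli space of a reduced algebraic stack is reduced. -/

set_option autoImplicit false
set_option maxHeartbeats 1000000
set_option backward.isDefEq.respectTransparency false
set_option backward.isDefEq.respectTransparency.types false

universe u

open CategoryTheory CategoryTheory.Limits AlgebraicGeometry Opposite AlgSp FibCat FibLib AlgStLib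

namespace RedModuliLib

variable {S : Scheme.{u}} {𝒳 : AlgSt.Cat S} {M : Sp S}

theorem isReducedSp (h𝒳 : AlgSt.IsAlgStack Scheme.fppfPrecoverage 𝒳)
    (hred : AlgSt.SmoothLocally (fun X => IsReduced X) 𝒳) (π : 𝒳 ⥤ᵇ AlgSt.ofSp M) (hπ : AlgSt.IsCatModuli π) :
    AlgSp.EtaleLocally (fun U => IsReduced U) M := by
  haveI := isFibGrpd_of_isAlgStack h𝒳
  obtain ⟨U, x, hx, hxs⟩ := h𝒳.atlas
  haveI : IsReduced U.left := hred U x hx
  let x' := BasedFunctor.comp (AlgSt.toOverCat U) x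
  let t₀ : (yon S).obj U ⟶ M := ObjectProperty.homMk (mapOf (BasedFunctor.comp x' π))
  have hUr : IsReducedSp ((yon S).obj U) :=
    ⟨U, 𝟙 _, AlgSpLib.repWith_of_isIso _, AlgSpLib.repWith_of_isIso _, inferInstance⟩
  obtain ⟨Z, i, hZ, hi⟩ := AlgSpRegLib.exists_schImage (IsAlgSpace.yon_obj U) hπ.1 t₀
  have hZr := (AlgSpRegLib.isRedInduced_of_isSchImage (IsAlgSpace.yon_obj U) hπ.1 hUr hi).2.2
  haveI : Mono i := AlgSpRegLib.mono_of_closedImmersion hi.1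
  obtain ⟨t₀', ht₀⟩ := hi.2.1
  have hmem : ∀ y : 𝒳.obj, ∃ z : Z.obj.obj (op (𝒳.p.obj y)), i.hom.app _ z = secOf π y := by
    intro y
    let ξ : 𝒳.p.Fiber (𝒳.p.obj y) := Functor.Fiber.mk (p := 𝒳.p) (a := y) rfl
    let u : AlgSt.ofSch (𝒳.p.obj y) ⥤ᵇ 𝒳 := BasedFunctor.comp (AlgSt.toOverCat _) (ofPoint ξ)
    obtain ⟨k⟩ := nonempty_evalAtId_ofPoint_iso ξ
    let V := 𝒳.p.obj y
    obtain ⟨W, c, hW, hc, hc₁⟩ := (repByAlgSpWith_iff _ _).mp (repByAlgSpWith_toOverCat_comp hx) V u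
    have hc₃ := prop_of_along good_surjective.bc.precomp_iso (repByAlgSpWith_toOverCat_comp hxs) hc
    haveI : Sheaf.IsLocallySurjective c := isLocallySurjective_of_fppf hW (IsAlgSpace.yon_obj V) c
      (locP_flat_of_smooth hc₁) (locP_lfp_of_smooth hc₁) hc₃
    obtain ⟨e, he, ⟨β⟩⟩ := hc
    let v : AlgSt.ofSp W ⥤ᵇ AlgSt.ofSch U := BasedFunctor.comp e (FibCat.fpSnd u _)
    obtain ⟨αv⟩ := nonempty_iso_mapOf v
    let m : W ⟶ (yon S).obj U := ObjectProperty.homMk (mapOf v)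
    have hv : BasedFunctor.comp (Stk.ofPshMap m.hom) x' ≅ BasedFunctor.comp (Stk.ofPshMap c.hom) u :=
      whiskerRightIso' αv.symm x' ≪≫ (whiskerLeftIso' e (fpIso u x')).symm ≪≫ whiskerRightIso' β u
    let t : (yon S).obj V ⟶ M := ObjectProperty.homMk (mapOf (BasedFunctor.comp u π))
    obtain ⟨a⟩ := nonempty_iso_mapOf (BasedFunctor.comp u π)
    obtain ⟨a₀⟩ := nonempty_iso_mapOf (BasedFunctor.comp x' π)
    have hct : m ≫ t₀ = c ≫ t := ObjectProperty.hom_ext _ (eq_of_iso_ofPshMap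
      (whiskerLeftIso' (Stk.ofPshMap m.hom) a₀.symm ≪≫ whiskerRightIso' hv π ≪≫
        whiskerLeftIso' (Stk.ofPshMap c.hom) a))
    obtain ⟨k', hk'⟩ := AlgSpRegLib.factor_of_cover i c t (m ≫ t₀') (by rw [Category.assoc, ht₀, hct])
    let o : Stk.EltObj ((yon S).obj V).obj := ⟨V, ⟨𝟙 V⟩⟩
    refine ⟨k'.hom.app _ o.sec, ?_⟩
    have h1 : i.hom.app _ (k'.hom.app _ o.sec) = t.hom.app _ o.sec :=
      congrArg (fun f : (yon S).obj V ⟶ M => f.hom.app _ o.sec) hk'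
    refine h1.trans ?_
    show secOf (BasedFunctor.comp u π) o = secOf π y
    let f : u.obj o ⟶ y := k.hom.1
    have hf : 𝒳.p.map f = eqToHom (u.w_obj o) :=
      haveI : 𝒳.p.IsHomLift (𝟙 V) f := k.hom.2
      (IsHomLift.fac' 𝒳.p (𝟙 V) f).trans (by simp)
    rw [secOf_comp, ← secOf_naturality π f, hf, ← Functor.map_comp_apply, ← op_comp]
    simp only [eqToHom_trans, eqToHom_refl, op_id]
    erw [Functor.map_id_apply]
  choose z hz using hmem
  have hinj : ∀ T, Function.Injective (i.hom.app T) := fun T => injective_app_of_mono i T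
  let φ : 𝒳 ⥤ᵇ AlgSt.ofSp Z :=
    { toFunctor :=
        { obj := fun y => ⟨𝒳.p.obj y, z y⟩
          map := fun {a b} f => ⟨𝒳.p.map f, hinj _ (by
            rw [NatTrans.naturality_apply, hz, hz, secOf_naturality])⟩
          map_id := fun a => Stk.EltObj.hom_ext (𝒳.p.map_id a)
          map_comp := fun f g => Stk.EltObj.hom_ext (𝒳.p.map_comp f g) }
      w := rfl }
  obtain ⟨g, ⟨γ⟩, -⟩ := hπ.2 Z hZ φ
  obtain ⟨w, -, hu⟩ := hπ.2 M hπ.1 π
  have hφi : Nonempty (BasedFunctor.comp φ (AlgSt.ofSpMap i) ≅ π) := nonempty_iso_of_sec fun y => by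
    rw [secOf_comp_map, ← hz y]
    congr 1
    simp [secOf, φ]
  obtain ⟨δ⟩ := hφi
  have h1 : g ≫ i = w := hu _ ⟨whiskerRightIso' γ (AlgSt.ofSpMap i) ≪≫ δ⟩
  have h2 : 𝟙 M = w := hu _ ⟨Iso.refl _⟩
  haveI : IsSplitEpi i := ⟨⟨⟨g, h1.trans h2.symm⟩⟩⟩
  haveI : IsIso i := isIso_of_mono_of_isSplitEpi i
  obtain ⟨U₀, p, hp, hps, hr⟩ := hZr
  exact ⟨U₀, p ≫ i, AlgSpLib.repWith_comp hp (AlgSpLib.repWith_of_isIso i),
    AlgSpLib.repWith_comp hps (AlgSpLib.repWith_of_isIso i), hr⟩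

end RedModuliLib
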